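import Cfsg.Agent.Lib.HNRecog.End.Main
import Cfsg.Agent.Lib.HNRecog.End.Four
import Cfsg.Agent.Lib.HNRecog.Classes.Facts
import Cfsg.Agent.Lib.HNRecog.Classes.One
import Cfsg.Agent.Lib.HNRecog.Assign.Main
import Cfsg.Agent.Lib.HNRecog.Amal.Embed

/-!
A finite simple group with the involution centraliser of the Harada-Norton group is the presented group.
-/

set_option autoImplicit false
set_option maxRecDepth 100000

namespace Cfsg.Agent.HNRecog

open Cfsg.Agent.HN

noncomputable section

universe u

/-- The facts of the end game, all discharged. -/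
theorem end_facts : End.Facts Classes.T0 Classes.W0 End.V1 End.bb End.b0 :=
  End.facts Classes.invol_classes Classes.four Classes.eight

/-- The group is the presented group. -/
theorem isoHN_of_centraliser {G : Type u} [Group G] [Finite G] [IsSimpleGroup G] (t : G) (ht : orderOf t = 2)
    (M : Subgroup (Subgroup.centralizer ({t} : Set G))) [M.Normal] (hM : M.index = 2)
    (hout : Subgroup.centralizer (M : Set (Subgroup.centralizer ({t} : Set G))) ≤ M)
    (hcov : Cfsg.IsNonsplitDoubleCover M Cfsg.Spor.HS) : Cfsg.Spor.IsoHN G := by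
  obtain ⟨ψ, q, h1, h2, h3, h4, h5, -, h7, h8, h9, -⟩ := Assign.exists_local_classes t ht M hM hout hcov
  obtain ⟨F, hF, hFψ⟩ := exists_embedding ψ h1 h2 h3 q h4 h5 h7 h8 h9
  exact End.isoHN_of_embedding end_facts ψ h2 h3 h7 F hF hFψ

/-- The order and the two classes of involutions. -/
theorem isHN_two_classes {G : Type u} [Group G] (h : Cfsg.Spor.IsoHN G) :
    Cfsg.IsHN G ∧ ∃ x y : G, orderOf x = 2 ∧ orderOf y = 2 ∧ ¬ IsConj x y ∧
      ∀ z : G, orderOf z = 2 → IsConj z x ∨ IsConj z y :=
  ⟨isHN_of_isoHN h, End.two_classes_of_isoHN h end_facts.T_ord end_facts.W_ord Classes.not_conj_T0_W0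
    Classes.invol_classes⟩

end

end Cfsg.Agent.HNRecog
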