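import Cfsg.Agent.Lib.HN.A12Main

/-! Consequences of being isomorphic to the presented Harada-Norton group: order, simplicity, an alternating
subgroup of degree twelve. -/

set_option autoImplicit false
set_option maxRecDepth 100000

namespace Cfsg.Agent.HN

noncomputable section

variable {X : XData} (hX : XOK X)
include hX

variable {Es : List MaxE} (hd : X.okDefs = true) (hm : X.okMax Es [1] = true) {U : List ℕ}
  (hU : okU U = true) {S : List (List ℕ)} (hS : S.all okAtoms = true)
  {C : List (List (List Hint × ℕ))} {P : List (List (List (List Hint × ℕ)))}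
  (hC : ∀ i < 10, X.okWord U (altW3 S i) (C.getD i []) = true)
  (hP : ∀ i < 10, ∀ j < 10, i < j → X.okWord U (altW2 S i j) ((P.getD i []).getD j []) = true)
  {m : ℕ} (hm10 : m < 10) {hs : List Hint} (hrun : X.okMoved (S.getD m []) hs = true)

include hd hm hU hS hC hP hm10 hrun


/-- the alternating group of degree twelve inside the presented group -/
theorem exists_alt_hom : ∃ ψ : alternatingGroup (Fin 12) →* Cfsg.Spor.HN, Function.Injective ψ := by
  classical
  have := finite_HN hX
  haveI hsimp : IsSimpleGroup Cfsg.Spor.HN := isSimple hX hd hm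
  have hat : ∀ i, okAtoms (S.getD i []) = true := fun i => by
    rcases Nat.lt_or_ge i S.length with h | h
    · rw [List.getD_eq_getElem _ _ h]; exact List.all_eq_true.1 hS _ (List.getElem_mem h)
    · rw [List.getD_eq_default _ _ h]; rfl
  have hcat : ∀ {u v : List ℕ}, okAtoms u = true → okAtoms v = true → okAtoms (u ++ v) = true := by
    intro u v hu hv
    simp only [okAtoms, List.all_append, Bool.and_eq_true]; exact ⟨hu, hv⟩
  set y : ℕ → Cfsg.Spor.HN := fun i => wv hnG (S.getD i []) with hy
  have hcube : ∀ i < 10, y i * y i * y i = 1 := fun i hi => by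
    have := word_one hX hU (hcat (hcat (hat i) (hat i)) (hat i)) (hC i hi)
    rwa [wv_append, wv_append] at this
  have hpair : ∀ i < 10, ∀ j < 10, i < j → (y i * y j) ^ 2 = 1 := fun i hi j hj hij => by
    have := word_one hX hU (hcat (hcat (hat i) (hat j)) (hcat (hat i) (hat j))) (hP i hi j hj hij)
    rw [wv_append, wv_append] at this
    rw [sq]; exact this
  set s : Finset (Fin 12) := Finset.univ.filter fun i => 2 ≤ i.1
  have hgood : BoundedPres.Good (0 : Fin 12) 1 s := ⟨by decide, by simp [s], by simp [s]⟩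
  have hfull : ∀ x : Fin 12, x ≠ 0 → x ≠ 1 → x ∈ s := fun x h0 h1 => by
    simp only [s, Finset.mem_filter, Finset.mem_univ, true_and]
    simp only [ne_eq, Fin.ext_iff, Fin.val_zero, Fin.val_one] at h0 h1
    omega
  have hrel : BoundedPres.CarRel (fun i : Fin 12 => y (i.1 - 2)) s := by
    refine ⟨fun i hi => ?_, fun i hi j hj hij => ?_⟩
    · have : i.1 - 2 < 10 := by have := i.2; omega
      rw [pow_succ, pow_two]; exact hcube _ this
    · have h2i : 2 ≤ i.1 := (Finset.mem_filter.1 hi).2
      have h2j : 2 ≤ j.1 := (Finset.mem_filter.1 hj).2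
      have := i.2; have := j.2
      have hne : i.1 ≠ j.1 := fun e => hij (Fin.ext e)
      rcases Nat.lt_or_ge (i.1 - 2) (j.1 - 2) with h | h
      · exact hpair _ (by omega) _ (by omega) h
      · exact BoundedPres.pair_symm (hpair _ (by omega) _ (by omega) (by omega))
  obtain ⟨f, hf⟩ := BoundedPres.car_hom hgood _ hrel
  have hCs := BoundedPres.Cs_eq_alternating hgood hfull
  haveI hA : IsSimpleGroup (alternatingGroup (Fin 12)) := alternatingGroup.isSimpleGroup (by simp)
  let ψ : alternatingGroup (Fin 12) →* Cfsg.Spor.HN := f.comp (MulEquiv.subgroupCongr hCs).symm.toMonoidHom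
  have hmoved : y m ≠ 1 := by
    intro e
    simp only [XData.okMoved] at hrun
    split at hrun
    · rename_i k' u' hr
      obtain ⟨hk', e1⟩ := runH_spec hX.omega _ hs 0 hX.node0.1 [] k' u' hr
      rw [act_eq hX _ (hat m), show wv hnG (S.getD m []) = 1 from e, map_one, inv_one,
        Equiv.Perm.one_apply] at e1
      have hh := congrArg (fun p : X.O.Pt => (p.1 : ℕ)) e1
      change 0 = k' at hh
      rw [← hh] at hrun
      exact Bool.false_ne_true hrun
    · exact Bool.false_ne_true hrun
  have hψinj : Function.Injective ψ := by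
    rcases Subgroup.Normal.eq_bot_or_eq_top (inferInstance : ψ.ker.Normal) with hk | hk
    · exact (MonoidHom.ker_eq_bot_iff ψ).1 hk
    · exfalso
      have hm2 : (⟨m + 2, by omega⟩ : Fin 12) ∈ s := by simp [s]
      refine hmoved ?_
      have h1 := hf _ hm2
      rw [show y (((⟨m + 2, by omega⟩ : Fin 12) : ℕ) - 2) = y m by simp] at h1
      rw [← h1]
      have h2 : ψ ((MulEquiv.subgroupCongr hCs) ⟨_, BoundedPres.cyc_mem hm2⟩) = 1 :=
        MonoidHom.mem_ker.1 (hk ▸ Subgroup.mem_top _)
      simpa [ψ] using h2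
  exact ⟨ψ, hψinj⟩

end

end Cfsg.Agent.HN

namespace Cfsg.Agent.HNRecog

/-- a group isomorphic to the presented group has an alternating subgroup of degree twelve -/
theorem exists_a12_of_isoHN {G : Type*} [Group G] (h : Cfsg.Spor.IsoHN G) :
    ∃ H : Subgroup G, Nonempty (H ≃* alternatingGroup (Fin 12)) := by
  obtain ⟨e⟩ := h
  obtain ⟨ψ, hψ⟩ := HN.exists_alt_hom HN.Dat.xok HN.Dat.defsOK HN.Dat.maxOK HN.Dat.altU_ok HN.Dat.altS_ok
    HN.Dat.cubes_ok HN.Dat.pairs_ok (show 6 < 10 by norm_num) HN.Dat.altRun_ok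
  exact ⟨_, ⟨(MonoidHom.ofInjective (f := e.symm.toMonoidHom.comp ψ) (e.symm.injective.comp hψ)).symm⟩⟩

/-- a group isomorphic to the presented group is simple of its order -/
theorem isHN_of_isoHN {G : Type*} [Group G] (h : Cfsg.Spor.IsoHN G) : Cfsg.IsHN G := by
  obtain ⟨e⟩ := h
  obtain ⟨h1, h2⟩ := HN.isHN HN.Dat.xok HN.Dat.defsOK HN.Dat.maxOK
  haveI := h1
  haveI : Nontrivial G := e.toEquiv.nontrivial
  exact ⟨IsSimpleGroup.isSimpleGroup_of_surjective e.symm.toMonoidHom e.symm.surjective,
    (Nat.card_congr e.toEquiv).trans h2⟩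

end Cfsg.Agent.HNRecog
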